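import Cfsg.Agent.H293.PwF.Row
import Cfsg.Agent.H868.Ore.Fi23A
import Cfsg.Agent.H692.Ore.Fi23C
import Cfsg.Agent.H935.Fi23.Deg

/-!
# `Fi23`: the half row (I) of S2465 modulo `PΩ₇(3)` (helper293)

* `bd_all` : the bounds `Bd` for all involutions (helper868: 2A, helper692: 2B, 2C);
* `pr_cent` : every `g` with `|C(g)| ≤ 42900000` is a product of two elements of order 23 (degrees: helper935);
* `six_fi23` : `All 6` from `All 6` of `PΩ₇(3)`.
-/

set_option autoImplicit false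

namespace Cfsg.Agent.H293.PwF

open Subgroup Cfsg Cfsg.Agent.H78.Pw
open Cfsg.Agent.H822.Ore.Fi23Row (Bd Bd.of_isConj)
open Cfsg.Spor (Fi23)

/-- **the bounds for all involutions** -/
theorem bd_all {z : Fi23} (hz : z * z = 1) (hz1 : z ≠ 1) : Bd z := by
  have hA : Bd Cfsg.Agent.Fischer.Fi23Z.z0 := fun s hs hc => Cfsg.Agent.H868.Ore.Fi23A.bd_z0 s hs hc
  rcases Cfsg.Agent.KFacts.FiTTh.Has.inv z hz hz1 with h | h | h
  · exact Bd.of_isConj hA h.symm
  · intro s hs hc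
    exact Cfsg.Agent.H692.Ore.Fi23B.two_b hA h.symm hs hc
  · intro s hs hc
    exact Cfsg.Agent.H692.Ore.Fi23C.two_c (by norm_num) hA h.symm hs hc

/-- **the sieve at 23** -/
theorem pr_cent {g : Fi23} (hc : Nat.card (centralizer ({g} : Set Fi23)) ≤ 42900000) {n : ℕ} (hn : Nat.Coprime 23 n) :
    Pr n g :=
  pr_of_cent Cfsg.Agent.H935.Fi23.degOn_ne Cfsg.Agent.H935.Fi23.degOn_x hc hn

/-- **half row (I) of `Fi23`, from `PΩ₇(3)`** -/
theorem six_fi23 (hO : All 6 (POmega (ZMod 3) (quadFormOdd 3 (ZMod 3)))) {S : Type*} [Group S]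
    (h : Spor.IsoFi23 S) : All 6 S :=
  six_of hO Cfsg.Agent.H935.Fi23.degOn_ne Cfsg.Agent.H935.Fi23.degOn_x (fun _ hz hz1 => bd_all hz hz1) h

end Cfsg.Agent.H293.PwF
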