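import Cfsg.Agent.H293.PwF.TCa
import Cfsg.Agent.H293.PwF.Final
import Cfsg.Agent.H153.Pw.Fi23Nine
import Cfsg.Agent.H822.Ore.Fi23Ore
import Cfsg.Agent.H210.TC.Row

/-!
# `Fi23`: row of S4173, S2464, S2452: two fixed classes (helper293)

The classes of an element `x0` of order 23 and of its inverse: `row3_fi23`.
-/

set_option autoImplicit false
set_option maxRecDepth 100000
set_option linter.constructorNameAsVariable false

namespace Cfsg.Agent.H293.PwF

open Subgroup Cfsg Cfsg.Agent.LThreeFi23 Cfsg.Agent.H838.Fi23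
open Cfsg.Agent.Fischer.Fi23Hom Cfsg.Agent.H29.Ore.Fi Cfsg.Agent.Characters
open Cfsg.Agent.H511.Ore (DegOn pNE pX)
open Cfsg.Spor (Fi23)

theorem card_x0 : Nat.card (centralizer ({x0} : Set Fi23)) = 23 := by
  have h := (Cfsg.Agent.H961.SepFi23.data23 (R := zpowers x0) (by rw [Nat.card_zpowers, orderOf_x0])).1
  rwa [zpowers_eq_closure, centralizer_closure] at h

/-- the sieve at 23 for a fixed pair of elements of order 23 -/
theorem prd_cent {y g : Fi23} (hy : orderOf y = 23) (hc : Nat.card (centralizer ({g} : Set Fi23)) ≤ 42900000) :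
    ∃ u v : Fi23, g = (u * x0 * u⁻¹) * (v * y * v⁻¹) := by
  have := Cfsg.Agent.KFacts.FiTTh.BasInv.finite
  have : IsSimpleGroup Fi23 := Cfsg.Agent.Fischer.Fi23Simple.isFi23.1
  exact H65.Ore.prd_all (p := 23) Cfsg.Agent.H822.Ore.Fi23Row.noncomm (by norm_num)
    Cfsg.Agent.Fischer.Fi23Simple.card_Fi23 orderOf_x0 card_x0 11 2 83 (by decide +kernel) (DN := 30888) (DX := 75000)
    (fun χ hχ hd => Cfsg.Agent.H935.Fi23.degOn_ne χ hχ (by
      unfold pNE
      rcases hd with hd | hd <;> rw [hd] <;> decide))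
    (fun χ hχ hd => Cfsg.Agent.H935.Fi23.degOn_x χ hχ (by
      unfold pX
      rcases hd with hd | hd <;> rw [hd] <;> decide))
    (by norm_num) (by norm_num) hy hc

theorem qx_cent {g : Fi23} (hc : Nat.card (centralizer ({g} : Set Fi23)) ≤ 42900000) : Qx g :=
  prd_cent (by rw [orderOf_inv, orderOf_x0]) hc

/-- **3-elements** -/
theorem qx_three_pow {g : Fi23} {n : ℕ} (hg : g ^ 3 ^ n = 1) : Qx g := by
  have hfin : Finite Fi23 := Cfsg.Agent.H199.NSmFi23.finite
  by_cases h1 : g ^ 3 = 1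
  · exact qx_three h1
  obtain ⟨j, hj, hgj⟩ := (Nat.dvd_prime_pow Nat.prime_three).1 (orderOf_dvd_of_pow_eq_one hg)
  have hj2 : 2 ≤ j := by
    by_contra hlt
    have h2 : j ≤ 1 := by omega
    apply h1
    apply orderOf_dvd_iff_pow_eq_one.1
    rw [hgj]
    calc 3 ^ j ∣ 3 ^ 1 := pow_dvd_pow 3 h2
      _ = 3 := pow_one 3
  obtain ⟨m, rfl⟩ := Nat.exists_eq_add_of_le hj2
  have hx : orderOf (g ^ 3 ^ m) = 9 := by
    rw [orderOf_pow, hgj, pow_add, Nat.gcd_eq_right (Dvd.intro_left _ rfl)]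
    exact Nat.mul_div_cancel 9 (by positivity)
  have hle := card_cent_le (x := g) (y := g ^ 3 ^ m) (fun h hh => (show Commute h g from hh).pow_right _)
  refine qx_cent ((Nat.le_of_dvd Nat.card_pos hle).trans ?_)
  exact (Cfsg.Agent.H153.Pw.Fi23Nine.nine_le hx).trans (by norm_num)

/-- **elements of odd order** -/
theorem qx_odd {g : Fi23} (ho : Odd (orderOf g)) : Qx g := by
  have hfin : Finite Fi23 := Cfsg.Agent.H199.NSmFi23.finite
  by_cases h : ∃ r : ℕ, r.Prime ∧ 5 ≤ r ∧ r ∣ orderOf g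
  · obtain ⟨r, hr, h5, hd⟩ := h
    obtain ⟨m, hm⟩ := hd
    have hm0 : m ≠ 0 := by
      rintro rfl
      rw [mul_zero] at hm
      exact (orderOf_pos g).ne' hm
    have hx : orderOf (g ^ m) = r := by
      rw [orderOf_pow_of_dvd hm0 ⟨r, by rw [hm, mul_comm]⟩, hm]
      exact Nat.mul_div_cancel _ (Nat.pos_of_ne_zero hm0)
    have hle := card_cent_le (x := g) (y := g ^ m) (fun h hh => (show Commute h g from hh).pow_right _)
    have h1 := card_cent_prime hr h5 hx
    exact qx_cent ((Nat.le_of_dvd Nat.card_pos hle).trans (h1.trans (by norm_num)))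
  · have h1 : ∀ r : ℕ, r.Prime → r ∣ orderOf g → r = 3 := by
      intro r hr hd
      by_contra hne
      apply h
      refine ⟨r, hr, ?_, hd⟩
      have h2 : r ≠ 2 := by
        rintro rfl
        exact (Nat.not_even_iff_odd.2 ho) (even_iff_two_dvd.2 hd)
      have h4 : r ≠ 4 := by
        rintro rfl
        exact absurd hr (by norm_num)
      have := hr.two_le
      omega
    have h2 : orderOf g = 3 ^ (orderOf g).primeFactorsList.length := by
      refine Nat.eq_prime_pow_of_unique_prime_dvd (orderOf_pos g).ne' ?_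
      intro d hd hdd
      exact h1 d hd hdd
    refine qx_three_pow (n := (orderOf g).primeFactorsList.length) ?_
    rw [← h2]
    exact pow_orderOf_eq_one g

/-- **every element of `Fi23` is a product of a conjugate of `x0` and one of `x0⁻¹`** -/
theorem qx_all (g : Fi23) : Qx g := by
  refine Cfsg.Agent.H822.Ore.Fi23Ore.frame' (Q := Qx) (fun g hg => qx_cent (hg.trans (by norm_num))) ?_
    (fun g hg => qx_odd hg) g
  intro g n hg
  obtain ⟨x, y, c, hx, hy, h⟩ := Cfsg.Agent.H822.Ore.Fi23Four.two_prd hg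
  rw [h, hy]
  exact qx_of_prd hx

/-- the model -/
theorem row3_model : Cfsg.Agent.H210.TC.Row3 Fi23 := by
  have hp : (orderOf x0).Prime := by rw [orderOf_x0]; norm_num
  have h6 : Nat.Coprime (orderOf x0) 6 := by rw [orderOf_x0]; norm_num
  refine ⟨x0, x0⁻¹, hp, h6, by rwa [orderOf_inv], by rwa [orderOf_inv], fun g _ => qx_all g, fun g => ?_⟩
  -- `x0⁻¹` is a product of two conjugates of `x0`
  obtain ⟨a, b, hab⟩ := prd_cent (y := x0) (g := x0⁻¹) orderOf_x0 (by
    have h : centralizer ({x0⁻¹} : Set Fi23) = centralizer ({x0} : Set Fi23) := by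
      ext w
      rw [mem_centralizer_singleton_iff, mem_centralizer_singleton_iff]
      constructor
      · intro h
        have h2 : Commute w x0⁻¹ := h
        simpa using h2.inv_right.eq
      · intro h
        have h2 : Commute w x0 := h
        exact h2.inv_right.eq
    rw [h, card_x0]
    norm_num)
  obtain ⟨u, v, h⟩ := qx_all g
  refine ⟨u, v * a, v * b, ?_⟩
  rw [h, hab]
  group

/-- **row `Fi23` of S4173, S2464, S2452** -/
theorem row3_fi23 {S : Type*} [Group S] (h : Spor.IsoFi23 S) : Cfsg.Agent.H210.TC.Row3 S := by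
  obtain ⟨e⟩ := h
  exact Cfsg.Agent.H210.TC.Row3.of_equiv e row3_model

/-- **row `Fi23` of S4173** -/
theorem tc_fi23 {S : Type*} [Group S] (h : Spor.IsoFi23 S) :
    ∃ a b : S, ∀ g : S, g ≠ 1 → ∃ u v : S, g = (u * a * u⁻¹) * (v * b * v⁻¹) := (row3_fi23 h).tc

end Cfsg.Agent.H293.PwF
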