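import Cfsg.Agent.H293.PwF.Final
import Cfsg.Agent.H367.PO.Seven
import Cfsg.Agent.H980.Pw.BigFi

/-!
# `Fi23`: row of S2465 (helper293)

The half row (I) with helper367's `six_seven` (`PΩ₇(3)`), the half row (II) by helper980.
-/

set_option autoImplicit false

namespace Cfsg.Agent.H293.PwF

open Subgroup Cfsg Cfsg.Agent.H78.Pw
open Cfsg.Spor (Fi23)

theorem six_o7 : All 6 (POmega (ZMod 3) (quadFormOdd 3 (ZMod 3))) :=
  Cfsg.Agent.H367.PO.six_seven (Or.inl (ZMod.card 3))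

/-- **half row (I)** -/
theorem six_fi {S : Type*} [Group S] (h : Spor.IsoFi23 S) : All 6 S := six_fi23 six_o7 h

/-- **half row (I), the model** -/
theorem six_model : All 6 Fi23 := six_fi ⟨MulEquiv.refl _⟩

/-- **row `Fi23` of S2465** -/
theorem pw_fi23 {S : Type*} [Group S] (h : Spor.IsoFi23 S) : Pw S :=
  ⟨six_fi h, fun _ hp h5 => Cfsg.Agent.H980.Pw.big_fi23 h hp h5⟩

end Cfsg.Agent.H293.PwF
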