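import Cfsg.Agent.H293.PwF.Three
import Cfsg.Agent.LThreeFi23.TwoCl
import Cfsg.Agent.H961.SepFi23

/-!
# `Fi23`: two fixed classes, part 1 (helper293)

`x0` of order 23, `Qx g` : `g` is a product of a conjugate of `x0` and a conjugate of `x0⁻¹`.
* `qx_of_prd` : `x (c x⁻¹ c⁻¹)` with `x ^ 23 = 1`;
* `qx_three` : the elements of order 3.
-/

set_option autoImplicit false
set_option maxRecDepth 100000
set_option linter.constructorNameAsVariable false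

namespace Cfsg.Agent.H293.PwF

open Subgroup Cfsg Cfsg.Agent.LThreeFi23 Cfsg.Agent.H838.Fi23 Cfsg.Agent.H838.Three Cfsg.Agent.H838.Mono
open Cfsg.Agent.Fischer.Fi23Hom
open Cfsg.Spor (Fi23)

/-- the element of order 23 -/
noncomputable def x0 : Fi23 := elw y23

theorem x0_pow : x0 ^ 23 = 1 := pow23

theorem orderOf_x0 : orderOf x0 = 23 := by
  have : Fact (Nat.Prime 23) := ⟨by norm_num⟩
  exact orderOf_eq_prime pow23 y23_ne

/-- product of the two classes -/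
def Qx (g : Fi23) : Prop := ∃ u v : Fi23, g = (u * x0 * u⁻¹) * (v * x0⁻¹ * v⁻¹)

theorem Qx.one : Qx 1 := ⟨1, 1, by group⟩

theorem Qx.of_conj {g : Fi23} (k : Fi23) (h : Qx (k * g * k⁻¹)) : Qx g := by
  obtain ⟨u, v, e⟩ := h
  refine ⟨k⁻¹ * u, k⁻¹ * v, ?_⟩
  calc g = k⁻¹ * (k * g * k⁻¹) * k := by group
    _ = k⁻¹ * ((u * x0 * u⁻¹) * (v * x0⁻¹ * v⁻¹)) * k := by rw [e]
    _ = _ := by group

theorem Qx.inv {g : Fi23} (h : Qx g) : Qx g⁻¹ := by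
  obtain ⟨u, v, e⟩ := h
  -- `g⁻¹ = (v x0 v⁻¹) (u x0⁻¹ u⁻¹)`
  refine ⟨v, u, ?_⟩
  rw [e]; group

theorem Qx.of_CI {x y : Fi23} (h : CI x y) (hy : Qx y) : Qx x := by
  obtain ⟨g, h | h⟩ := h
  · exact Qx.of_conj g (by rw [h]; exact hy)
  · exact Qx.of_conj g (by rw [h]; exact hy.inv)

/-- the element with `n x0 n⁻¹ = x0 ^ 2` -/
def wn : List Lt := [.z, .g, .j, .i, .e, .d, .h, .g, .f, .c, .d, .e, .b, .c, .d, .h, .i, .f, .c, .d, .e, .b, .c, .d, .h, .g, .f,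
    .e, .d, .c, .b, .a, .b, .c, .d, .e, .f, .g, .h, .d, .c, .b, .e, .d, .c, .f, .i, .h, .d, .c, .b, .e, .d,
    .c, .f, .g, .h, .d, .e, .i, .j, .g, .z, .i, .h, .g, .f, .e, .d, .e, .f, .g, .h, .i, .f, .c, .d, .e, .b,
    .c, .d, .h, .i, .f, .e, .c, .d, .h, .g, .f, .e, .d, .c, .b, .a, .b, .c, .d, .e, .f, .g, .h, .d, .c, .e,
    .f, .i, .h, .d, .c, .b, .e, .d, .c, .f, .e, .b, .c, .d, .h, .i, .e, .c, .d, .h, .f, .e, .d, .c, .b, .c,
    .d, .e, .f, .h, .d, .c, .e, .i, .h, .d, .c, .b, .e, .f, .e, .f, .e, .h, .d, .c, .d, .b, .a]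

theorem kn : eqM (wn ++ y23) (y23 ++ (y23 ++ wn)) = true := by decide +kernel

theorem n_conj : elw wn * x0 * (elw wn)⁻¹ = x0 ^ 2 := by
  have h := elw_eq kn
  rw [elw_append, elw_append, elw_append] at h
  show elw wn * elw y23 * (elw wn)⁻¹ = elw y23 ^ 2
  rw [h, pow_two]; group

theorem n_pow (j : ℕ) : elw wn ^ j * x0 * (elw wn ^ j)⁻¹ = x0 ^ (2 ^ j) := by
  induction j with
  | zero => rw [pow_zero, pow_zero, pow_one]; group
  | succ j ih =>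
    have h := n_conj
    calc elw wn ^ (j + 1) * x0 * (elw wn ^ (j + 1))⁻¹ = elw wn * (elw wn ^ j * x0 * (elw wn ^ j)⁻¹) * (elw wn)⁻¹ := by
          rw [pow_succ']; group
      _ = elw wn * x0 ^ (2 ^ j) * (elw wn)⁻¹ := by rw [ih]
      _ = (elw wn * x0 * (elw wn)⁻¹) ^ (2 ^ j) := by rw [conj_pow]
      _ = x0 ^ (2 ^ (j + 1)) := by rw [h, ← pow_mul, pow_succ']

theorem sq_cases : ∀ i : ZMod 23, i = 0 ∨ ∃ j : Fin 11, i = 2 ^ (j : ℕ) ∨ -i = 2 ^ (j : ℕ) := by decide +kernel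

/-- powers of `x0` -/
theorem x0_zpow (i : ℤ) : x0 ^ i = 1 ∨ ∃ k : Fi23, k * x0 ^ i * k⁻¹ = x0 ∨ k * x0 ^ i * k⁻¹ = x0⁻¹ := by
  have key : ∀ (a b : ℤ), (a : ZMod 23) = (b : ZMod 23) → x0 ^ a = x0 ^ b := by
    intro a b h
    rw [ZMod.intCast_eq_intCast_iff] at h
    rw [zpow_eq_zpow_iff_modEq, orderOf_x0]
    exact h
  rcases sq_cases (i : ZMod 23) with h | ⟨j, h | h⟩
  · left
    rw [key i 0 (by rw [h]; simp), zpow_zero]
  · right
    refine ⟨(elw wn ^ (j : ℕ))⁻¹, Or.inl ?_⟩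
    have h1 : x0 ^ i = x0 ^ (2 ^ (j : ℕ)) := by
      rw [key i ((2 : ℤ) ^ (j : ℕ)) (by rw [h]; push_cast; rfl)]
      rw [← zpow_natCast]; push_cast; rfl
    rw [h1, ← n_pow]
    group
  · right
    refine ⟨(elw wn ^ (j : ℕ))⁻¹, Or.inr ?_⟩
    have h1 : x0 ^ i = (x0 ^ (2 ^ (j : ℕ)))⁻¹ := by
      have h2 : x0 ^ (-i) = x0 ^ (2 ^ (j : ℕ)) := by
        rw [key (-i) ((2 : ℤ) ^ (j : ℕ)) (by push_cast; rw [h])]
        rw [← zpow_natCast]; push_cast; rfl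
      rw [← h2, zpow_neg, inv_inv]
    rw [h1, ← n_pow]
    group

theorem x23_cases {x : Fi23} (hx : x ^ 23 = 1) : x = 1 ∨ ∃ k : Fi23, k * x * k⁻¹ = x0 ∨ k * x * k⁻¹ = x0⁻¹ := by
  obtain ⟨g, i, hg⟩ := conj_twentythree hx
  change g * x * g⁻¹ = x0 ^ i at hg
  rcases x0_zpow i with h | ⟨k, h⟩
  · left
    rw [h] at hg
    have : x = g⁻¹ * (g * x * g⁻¹) * g := by group
    rw [this, hg]; group
  · right
    refine ⟨k * g, ?_⟩
    have e : k * g * x * (k * g)⁻¹ = k * (g * x * g⁻¹) * k⁻¹ := by group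
    rw [e, hg]
    exact h

/-- `x (c x⁻¹ c⁻¹)` with `x ^ 23 = 1` -/
theorem qx_of_prd {x c : Fi23} (hx : x ^ 23 = 1) : Qx (x * (c * x⁻¹ * c⁻¹)) := by
  rcases x23_cases hx with rfl | ⟨k, h | h⟩
  · have e : (1 : Fi23) * (c * 1⁻¹ * c⁻¹) = 1 := by group
    rw [e]; exact Qx.one
  · have hx' : x = k⁻¹ * x0 * k := by rw [← h]; group
    refine ⟨k⁻¹, c * k⁻¹, ?_⟩
    rw [hx']; group
  · have hx' : x = k⁻¹ * x0⁻¹ * k := by rw [← h]; group
    -- `A B = B (B⁻¹ A B)`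
    refine ⟨c * k⁻¹, (c * k⁻¹ * x0 * (c * k⁻¹)⁻¹)⁻¹ * k⁻¹, ?_⟩
    rw [hx']; group

theorem qx_of_words {a c r : List Lt} (h1 : eqM (wpow a 23) [] = true)
    (h2 : eqM (c ++ a.reverse) (a.reverse ++ (r ++ c)) = true) : Qx (elw r) := by
  have e1 := elw_eq h1
  have e2 := elw_eq h2
  rw [elw_wpow, elw_nil] at e1
  rw [elw_append, elw_append, elw_append, elw_reverse] at e2
  have e3 : elw r = elw a * (elw c * (elw a)⁻¹ * (elw c)⁻¹) := by
    rw [e2]; group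
  rw [e3]
  exact qx_of_prd e1

def b0 : List Lt := [.f, .z, .c, .f, .a, .j, .g, .j, .b, .d, .g, .a, .h, .c, .f, .b, .e, .f, .c, .d, .i, .h, .e, .c, .j, .b, .d,
    .g, .a, .h, .c, .f, .b, .e, .f, .c, .d, .i, .h, .e, .c, .g, .j, .a, .f, .c, .z, .f]
def c0 : List Lt := [.j]
def b1 : List Lt := [.h, .i, .c, .z, .d, .h, .d, .j, .b, .d, .g, .a, .h, .c, .f, .b, .e, .f, .c, .d, .i, .h, .e, .c, .d, .h, .d,
    .z, .c, .i, .h]
def c1 : List Lt := [.e, .h, .b]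
def b2 : List Lt := [.d, .z, .h, .c, .e, .h, .i, .d, .c, .f, .e, .b, .f, .c, .h, .a, .g, .d, .b, .j, .h, .z, .d]
def c2 : List Lt := [.j, .e, .c, .b, .c, .i, .h, .i]
def b3 : List Lt := [.f, .j, .i, .c, .b, .z, .d, .f, .h, .b, .j, .b, .d, .g, .a, .h, .c, .f, .b, .e, .f, .c, .d, .i, .h, .e, .c,
    .b, .h, .f, .d, .z, .b, .c, .i, .j, .f]
def c3 : List Lt := [.z, .j, .z, .e, .b, .i]

theorem u0 : eqM (wpow b0 23) [] = true := by decide +kernel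
theorem v0 : eqM (c0 ++ b0.reverse) (b0.reverse ++ ([.z, .j] ++ c0)) = true := by decide +kernel
theorem u1 : eqM (wpow b1 23) [] = true := by decide +kernel
theorem v1 : eqM (c1 ++ b1.reverse) (b1.reverse ++ (y135 ++ c1)) = true := by decide +kernel
theorem u2 : eqM (wpow b2 23) [] = true := by decide +kernel
theorem v2 : eqM (c2 ++ b2.reverse) (b2.reverse ++ (y324 ++ c2)) = true := by decide +kernel
theorem u3 : eqM (wpow b3 23) [] = true := by decide +kernel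
theorem v3 : eqM (c3 ++ b3.reverse) (b3.reverse ++ (y27 ++ c3)) = true := by decide +kernel

theorem qx_rep (k : Fin 4) : Qx (rep k) := by
  fin_cases k
  · have h := qx_of_words u0 v0
    rw [elw_cons, elw_one] at h
    exact h
  · exact qx_of_words u1 v1
  · exact qx_of_words u2 v2
  · exact qx_of_words u3 v3

/-- **the elements of order 3** -/
theorem qx_three {x : Fi23} (hx : x ^ 3 = 1) : Qx x := by
  by_cases h1 : x = 1
  · rw [h1]; exact Qx.one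
  · obtain ⟨k, hk⟩ := classes hx h1
    exact Qx.of_CI hk (qx_rep k)

end Cfsg.Agent.H293.PwF
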