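import Cfsg.Agent.H29.Ore.FiA
import Cfsg.Agent.H78.Pw.Base

/-!
# `Fi23`: the elements of order 3 are products of two elements of order 5 (helper293)

Half row (I) of S2465 for `Fi23`, elements of order 3: helper838's `classes` gives four representatives (up to inversion),
each a product of two words of order 5.  `D1`, `D2` : the same for helper29's two elements of order 9 without fixed points.
-/

set_option autoImplicit false
set_option maxRecDepth 100000
set_option linter.constructorNameAsVariable false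

namespace Cfsg.Agent.H293.PwF

open Subgroup Cfsg Cfsg.Agent.LThreeFi23 Cfsg.Agent.H838.Fi23 Cfsg.Agent.H838.Three Cfsg.Agent.H838.Mono
open Cfsg.Agent.Fischer.Fi23Hom Cfsg.Agent.H78.Pw Cfsg.Agent.H29.Ore.Fi
open Cfsg.Spor (Fi23)

/-- the `n`-th power of a word -/
def wpow (l : List Lt) : ℕ → List Lt
  | 0 => []
  | n + 1 => l ++ wpow l n

theorem elw_wpow (l : List Lt) (n : ℕ) : elw (wpow l n) = elw l ^ n := by
  induction n with
  | zero => rw [pow_zero]; exact elw_nil
  | succ n ih => rw [show wpow l (n + 1) = l ++ wpow l n from rfl, elw_append, ih, pow_succ']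

/-- the reversed word times a word -/
theorem pr_of_words {a r : List Lt} {n m : ℕ} (hn : Nat.Coprime n 6) (hm : Nat.Coprime m 6)
    (h1 : eqM (wpow a n) [] = true) (h2 : eqM (wpow (a.reverse ++ r) m) [] = true) : Pr 6 (elw r) := by
  have e1 := elw_eq h1
  have e2 := elw_eq h2
  rw [elw_wpow, elw_nil] at e1 e2
  refine ⟨elw a, elw (a.reverse ++ r), ?_, Nat.Coprime.of_dvd_left (orderOf_dvd_of_pow_eq_one e1) hn,
    Nat.Coprime.of_dvd_left (orderOf_dvd_of_pow_eq_one e2) hm⟩
  rw [elw_append, elw_reverse, mul_inv_cancel_left]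

def a0 : List Lt := [.h, .f, .h, .j, .e, .g]
def a1 : List Lt := [.a, .d, .b, .c, .b, .h]
def a2 : List Lt := [.d, .f, .g, .e, .d, .c]
def a3 : List Lt := [.f, .g, .j, .z, .d, .h, .i, .c]
def a4 : List Lt := [.g, .a, .z, .i, .c, .d, .e, .a, .h, .f, .z, .d]
def a5 : List Lt := [.j, .c, .d, .c, .e, .g, .f, .j, .e, .h]

theorem p0 : eqM (wpow a0 5) [] = true := by decide +kernel
theorem q0 : eqM (wpow (a0.reverse ++ [.z, .j]) 5) [] = true := by decide +kernel
theorem p1 : eqM (wpow a1 5) [] = true := by decide +kernel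
theorem q1 : eqM (wpow (a1.reverse ++ y135) 5) [] = true := by decide +kernel
theorem p2 : eqM (wpow a2 5) [] = true := by decide +kernel
theorem q2 : eqM (wpow (a2.reverse ++ y324) 5) [] = true := by decide +kernel
theorem p3 : eqM (wpow a3 5) [] = true := by decide +kernel
theorem q3 : eqM (wpow (a3.reverse ++ y27) 5) [] = true := by decide +kernel
theorem p4 : eqM (wpow a4 7) [] = true := by decide +kernel
theorem q4 : eqM (wpow (a4.reverse ++ wD1) 7) [] = true := by decide +kernel
theorem p5 : eqM (wpow a5 5) [] = true := by decide +kernel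
theorem q5 : eqM (wpow (a5.reverse ++ wD2) 7) [] = true := by decide +kernel

theorem pr_uu : Pr 6 uu := by
  have h := pr_of_words (n := 5) (m := 5) (by decide) (by decide) p0 q0
  rwa [elw_cons, elw_one] at h

theorem pr_rep (k : Fin 4) : Pr 6 (rep k) := by
  fin_cases k
  · exact pr_uu
  · exact pr_of_words (n := 5) (m := 5) (by decide) (by decide) p1 q1
  · exact pr_of_words (n := 5) (m := 5) (by decide) (by decide) p2 q2
  · exact pr_of_words (n := 5) (m := 5) (by decide) (by decide) p3 q3

theorem pr_D1 : Pr 6 (elw wD1) := pr_of_words (n := 7) (m := 7) (by decide) (by decide) p4 q4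
theorem pr_D2 : Pr 6 (elw wD2) := pr_of_words (n := 5) (m := 7) (by decide) (by decide) p5 q5

theorem Pr.of_CI {x y : Fi23} (h : CI x y) (hy : Pr 6 y) : Pr 6 x := by
  obtain ⟨g, h | h⟩ := h
  · exact Pr.of_conj (x := g) (by rw [h]; exact hy)
  · exact Pr.of_conj (x := g) (by rw [h]; exact hy.inv)

/-- **the elements of order 3** -/
theorem pr_three {x : Fi23} (hx : x ^ 3 = 1) : Pr 6 x := by
  by_cases h1 : x = 1
  · rw [h1]; exact Pr.one 6
  · obtain ⟨k, hk⟩ := classes hx h1
    exact Pr.of_CI hk (pr_rep k)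

end Cfsg.Agent.H293.PwF
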